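import Cfsg.Agent.Lib.DerangeTwo.Small

/-!
# The fixed point sum over a two-point stabilizer
-/

set_option autoImplicit false

open Finset

namespace Cfsg.Agent.DerangeTwo

lemma arith_four (n h s : ℕ) (hh : 2 ≤ h) (hs : 3 * s ≤ (h - 1) * (n - 1)) :
    (2 * h - 1) * s ≤ n * (h - 1) ^ 2 := by
  obtain ⟨e, rfl⟩ : ∃ e, h = e + 2 := ⟨h - 2, by omega⟩
  simp only [show 2 * (e + 2) - 1 = 2 * e + 3 by omega, show e + 2 - 1 = e + 1 by omega] at *
  have h1 : (e + 1) * (n - 1) ≤ (e + 1) * n := Nat.mul_le_mul le_rfl (Nat.sub_le _ _)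
  nlinarith

lemma arith_mid (n h s o : ℕ) (hh : 2 ≤ h) (hn : 1 ≤ n) (hs1 : 2 * s ≤ (h - 1) * (n - 1))
    (hso : s + n = o * h) (ho : 2 * o ≤ n + 1) : (2 * h - 1) * s ≤ n * (h - 1) ^ 2 := by
  obtain ⟨e, rfl⟩ : ∃ e, h = e + 2 := ⟨h - 2, by omega⟩
  obtain ⟨m, rfl⟩ : ∃ m, n = m + 1 := ⟨n - 1, by omega⟩
  simp only [show 2 * (e + 2) - 1 = 2 * e + 3 by omega, show e + 2 - 1 = e + 1 by omega,
    Nat.add_sub_cancel] at *
  rcases Nat.le_total m (2 * e + 2) with hm | hm
  · nlinarith
  · have : 2 * o * (e + 2) ≤ (m + 2) * (e + 2) := Nat.mul_le_mul (by omega) le_rfl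
    nlinarith

lemma arith_two (n h s o : ℕ) (hh : 2 ≤ h) (hso : s + n = o * h) (ho : 2 * o ≤ n) :
    (2 * h - 1) * s ≤ n * (h - 1) ^ 2 := by
  obtain ⟨e, rfl⟩ : ∃ e, h = e + 2 := ⟨h - 2, by omega⟩
  simp only [show 2 * (e + 2) - 1 = 2 * e + 3 by omega, show e + 2 - 1 = e + 1 by omega] at *
  have : 2 * o * (e + 2) ≤ n * (e + 2) := Nat.mul_le_mul ho le_rfl
  nlinarith

lemma arith_three (n h s o : ℕ) (hh : 2 ≤ h) (hn : 3 ≤ n) (hs1 : 2 * s ≤ (h - 1) * (n - 3))
    (hso : s + n = o * h) (ho : 2 * o = n + 3) : (2 * h - 1) * s ≤ n * (h - 1) ^ 2 := by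
  obtain ⟨e, rfl⟩ : ∃ e, h = e + 2 := ⟨h - 2, by omega⟩
  obtain ⟨m, rfl⟩ : ∃ m, n = m + 3 := ⟨n - 3, by omega⟩
  simp only [show 2 * (e + 2) - 1 = 2 * e + 3 by omega, show e + 2 - 1 = e + 1 by omega,
    Nat.add_sub_cancel] at *
  have : 2 * o * (e + 2) = (m + 6) * (e + 2) := by rw [ho]
  nlinarith

variable {G Ω : Type*} [Group G] [Fintype G] [DecidableEq G] [MulAction G Ω] [Fintype Ω]
  [DecidableEq Ω] [FaithfulSMul G Ω]

lemma card_eq_pairs (h2 : PairTrans G Ω) {a b : Ω} (hab : a ≠ b) :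
    Fintype.card G = (Fintype.card Ω * (Fintype.card Ω - 1)) * (Hs G a b).card := by
  have h := stab_mul_orb (K := G) ((a, b) : Ω × Ω)
  have h1 : ((univ : Finset G).filter fun g => g • ((a, b) : Ω × Ω) = (a, b)) = Hs G a b := by
    ext g; simp [Prod.smul_def]
  have h2' : orb G ((a, b) : Ω × Ω) = (univ : Finset Ω).offDiag := by
    ext ⟨c, d⟩
    simp only [mem_orb, mem_offDiag, mem_univ, true_and, Prod.smul_mk, Prod.mk.injEq]
    constructor
    · rintro ⟨g, rfl, rfl⟩ e
      exact hab (MulAction.injective g e)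
    · exact fun hcd => h2 a b c d hab hcd
  rw [h1, h2', offDiag_card, card_univ] at h
  rw [← h, mul_comm]
  congr 1
  rw [Nat.mul_sub, mul_one]

lemma no_triple_orbit (h2 : PairTrans G Ω) (h7 : 7 ≤ Fintype.card Ω) {a b x : Ω} (hab : a ≠ b)
    (H : Subgroup G) [Fintype H] (hH : ∀ g, g ∈ H ↔ g ∈ Hs G a b)
    (hx : (orb (↥H) x).card = 3) (hother : ∀ y ∉ orb (↥H) x, (orb (↥H) y).card ≤ 2) : False := by
  classical
  have h3 : 3 ∣ Fintype.card H := by
    rw [← stab_mul_orb (K := ↥H) x, hx]; exact dvd_mul_left 3 _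
  have : Fact (Nat.Prime 3) := ⟨Nat.prime_three⟩
  obtain ⟨q, hq⟩ := exists_prime_orderOf_dvd_card 3 h3
  set π := MulAction.toPermHom G Ω with hπ
  have hπinj : Function.Injective π := MulAction.toPerm_injective
  have hord : orderOf (π q) = 3 := by
    rw [orderOf_injective π hπinj, Subgroup.orderOf_coe, hq]
  have hfix : ∀ y ∉ orb (↥H) x, π q y = y := by
    intro y hy
    by_contra hne
    change q • y ≠ y at hne
    have hmem : ∀ g : ↥H, g • y = y ∨ g • y = q • y := by
      intro g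
      by_contra hg
      push Not at hg
      have hsub : ({y, q • y, g • y} : Finset Ω) ⊆ orb (↥H) y := by
        intro z hz
        simp only [mem_insert, mem_singleton] at hz
        rcases hz with rfl | rfl | rfl
        exacts [mem_orb_self _, mem_orb.mpr ⟨q, rfl⟩, mem_orb.mpr ⟨g, rfl⟩]
      have := card_le_card hsub
      rw [card_eq_three.mpr ⟨y, q • y, g • y, Ne.symm hne, hg.1.symm, hg.2.symm, rfl⟩] at this
      have := hother y hy
      omega
    have hq3 : q ^ 3 = 1 := hq ▸ pow_orderOf_eq_one q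
    rcases hmem (q * q) with e | e
    · apply hne
      have e3 : (q ^ 3) • y = y := by rw [hq3, one_smul]
      rw [pow_succ', pow_two, mul_smul, e] at e3
      exact e3
    · rw [mul_smul] at e
      exact hne (MulAction.injective q e)
  have hsupp : (π q).support.card ≤ 3 := by
    rw [← hx]
    refine card_le_card fun y hy => ?_
    by_contra h
    exact Equiv.Perm.mem_support.mp hy (hfix y h)
  have hthree : (π q).IsThreeCycle := by
    rw [← card_support_eq_three_iff]
    have h0 : (π q).support.card ≠ 0 := fun e => by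
      rw [card_eq_zero, Equiv.Perm.support_eq_empty_iff] at e
      rw [e, orderOf_one] at hord
      omega
    have h1 := Equiv.Perm.card_support_ne_one (π q)
    have h2' : (π q).support.card ≠ 2 := fun e => by
      have := (Equiv.Perm.card_support_eq_two.mp e).orderOf
      omega
    omega
  have : MulAction.IsMultiplyPretransitive G Ω 2 :=
    MulAction.is_two_pretransitive_iff.mpr fun {p} {p'} {r} {r'} hp hr => h2 p p' r r' hp hr
  have hprim : MulAction.IsPreprimitive G Ω :=
    MulAction.isPreprimitive_of_is_two_pretransitive inferInstance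
  let f : Ω →ₑ[fun k : G => (⟨π k, k, rfl⟩ : π.range)] Ω := ⟨id, fun k y => rfl⟩
  have hp : MulAction.IsPreprimitive π.range Ω :=
    MulAction.IsPreprimitive.of_surjective (f := f) Function.surjective_id
  have halt : alternatingGroup Ω ≤ π.range :=
    Equiv.Perm.alternatingGroup_le_of_isPreprimitive_of_isThreeCycle_mem hp hthree ⟨q, rfl⟩
  have hlt : (orb (↥H) x ∪ {a, b}).card ≤ 5 :=
    (card_union_le _ _).trans (by rw [hx, card_pair hab])
  obtain ⟨w, hw, v, hv, hwv⟩ := one_lt_card.mp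
    (show 1 < (orb (↥H) x ∪ {a, b})ᶜ.card by rw [card_compl]; omega)
  simp only [mem_compl, mem_union, mem_insert, mem_singleton, not_or] at hw hv
  have hxw : x ≠ w := fun e => hw.1 (e ▸ mem_orb_self x)
  have hxv : x ≠ v := fun e => hv.1 (e ▸ mem_orb_self x)
  have hxa : ∀ c : Ω, (∀ g : ↥H, g • c = c) → x ≠ c := by
    intro c hc e
    obtain ⟨z, hz, z', hz', hzz⟩ := one_lt_card.mp (show 1 < (orb (↥H) x).card by omega)
    obtain ⟨g, rfl⟩ := mem_orb.mp hz
    obtain ⟨g', rfl⟩ := mem_orb.mp hz'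
    subst e
    exact hzz (by rw [hc g, hc g'])
  have hHa : ∀ g : ↥H, g • a = a := fun g => (mem_Hs.mp ((hH g).mp g.2)).1
  have hHb : ∀ g : ↥H, g • b = b := fun g => (mem_Hs.mp ((hH g).mp g.2)).2
  obtain ⟨g, hg⟩ := halt
    (Equiv.Perm.isThreeCycle_swap_mul_swap_same hxv hxw hwv.symm).mem_alternatingGroup
  have happ : ∀ y, g • y = (Equiv.swap x v * Equiv.swap x w) y := fun y =>
    congrArg (fun p : Equiv.Perm Ω => p y) hg
  have hgH : g ∈ H := by
    rw [hH, mem_Hs]
    constructor
    · rw [happ, Equiv.Perm.mul_apply,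
        Equiv.swap_apply_of_ne_of_ne (hxa a hHa).symm (Ne.symm hw.2.1),
        Equiv.swap_apply_of_ne_of_ne (hxa a hHa).symm (Ne.symm hv.2.1)]
    · rw [happ, Equiv.Perm.mul_apply,
        Equiv.swap_apply_of_ne_of_ne (hxa b hHb).symm (Ne.symm hw.2.2),
        Equiv.swap_apply_of_ne_of_ne (hxa b hHb).symm (Ne.symm hv.2.2)]
  apply hw.1
  refine mem_orb.mpr ⟨⟨g, hgH⟩, ?_⟩
  change g • x = w
  rw [happ, Equiv.Perm.mul_apply, Equiv.swap_apply_left,
    Equiv.swap_apply_of_ne_of_ne hxw.symm hwv]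

/-- The key inequality. -/
theorem fix_sum_bound (h2 : PairTrans G Ω) (h7 : 7 ≤ Fintype.card Ω) {a b : Ω} (hab : a ≠ b)
    (hh : 2 ≤ (Hs G a b).card) :
    (2 * (Hs G a b).card - 1) * ∑ g ∈ (Hs G a b).erase 1, fx (X := Ω) g ≤
      Fintype.card Ω * ((Hs G a b).card - 1) ^ 2 := by
  classical
  set n := Fintype.card Ω with hn
  set h := (Hs G a b).card with hhdef
  set k := (Ln G a b).card with hkdef
  set s := ∑ g ∈ (Hs G a b).erase 1, fx (X := Ω) g with hsdef
  let H := MulAction.stabilizer G a ⊓ MulAction.stabilizer G b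
  have hHmem : ∀ g, g ∈ H ↔ g ∈ Hs G a b := fun g => by
    simp [H, Subgroup.mem_inf, MulAction.mem_stabilizer_iff]
  have hHcard : Fintype.card H = h := Fintype.card_of_subtype (Hs G a b) fun g => (hHmem g).symm
  have h1mem : (1 : G) ∈ Hs G a b := by simp
  set o := (orbs (↥H) Ω).card with hodef
  have hso : s + n = o * h := by
    have := sum_fx (K := ↥H) (X := Ω)
    rw [hHcard] at this
    rw [hodef, ← this]
    have hfx1 : fx (X := Ω) (1 : G) = n := by simp [fx, hn]
    rw [hsdef, ← hfx1, sum_erase_add _ _ h1mem, ← Finset.sum_subtype (Hs G a b)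
      (fun g => (hHmem g).symm) (fun g : G => fx (X := Ω) g) |>.symm]
    rfl
  set S := (orbs (↥H) Ω).filter fun O => O.card = 1 with hS
  have hSk : S.card = k := by
    symm
    have horb1 : ∀ x ∈ Ln G a b, orb (↥H) x = {x} := by
      intro x hx
      ext y
      rw [mem_orb, mem_singleton]
      refine ⟨fun ⟨g, hg⟩ => hg ▸ mem_Ln.mp hx g ((hHmem g).mp g.2), ?_⟩
      rintro rfl
      exact ⟨1, one_smul _ _⟩
    refine card_bij (fun x _ => orb (↥H) x) ?_ ?_ ?_
    · intro x hx
      simp only [hS, mem_filter]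
      exact ⟨mem_image_of_mem _ (mem_univ x), by rw [horb1 x hx, card_singleton]⟩
    · intro x hx y hy e
      rwa [horb1 x hx, horb1 y hy, singleton_inj] at e
    · intro O hO
      simp only [hS, mem_filter, orbs, mem_image, mem_univ, true_and] at hO
      obtain ⟨⟨x, rfl⟩, h1⟩ := hO
      refine ⟨x, mem_Ln.mpr fun g hg => ?_, rfl⟩
      exact card_le_one.mp h1.le _ (mem_orb.mpr ⟨⟨g, (hHmem g).mpr hg⟩, rfl⟩) _ (mem_orb_self x)
  set B := (orbs (↥H) Ω).filter fun O => ¬ O.card = 1 with hB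
  set E := ∑ O ∈ B, (O.card - 2) with hE
  have hcount : 2 * o + E = n + k := by
    have h1 : S.card + B.card = o := card_filter_add_card_filter_not _
    have h2' : ∑ O ∈ S, O.card + ∑ O ∈ B, O.card = n := by
      rw [hS, hB, sum_filter_add_sum_filter_not]
      exact sum_card_orbs
    have h3 : ∑ O ∈ S, O.card = k := by
      rw [← hSk, card_eq_sum_ones]
      exact sum_congr rfl fun O hO => (mem_filter.mp hO).2
    have h4 : ∑ O ∈ B, O.card = E + 2 * B.card := by
      rw [hE, mul_comm, ← smul_eq_mul, ← sum_const, ← sum_add_distrib]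
      refine sum_congr rfl fun O hO => ?_
      obtain ⟨hO1, hO2⟩ := mem_filter.mp hO
      have := orb_pos hO1
      omega
    omega
  have hbig : ∀ x : Ω, (orb (↥H) x).card ≤ E + 2 := by
    intro x
    by_cases h1 : (orb (↥H) x).card = 1
    · omega
    · have hmem : orb (↥H) x ∈ B :=
        mem_filter.mpr ⟨mem_image_of_mem _ (mem_univ x), h1⟩
      have := single_le_sum (f := fun O : Finset Ω => O.card - 2) (fun _ _ => Nat.zero_le _) hmem
      rw [← hE] at this
      omega
  have hk2 : 2 ≤ k := by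
    rw [hkdef, ← card_pair hab]
    refine card_le_card fun x hx => ?_
    simp only [mem_insert, mem_singleton] at hx
    rcases hx with rfl | rfl
    exacts [left_mem_Ln _ _, right_mem_Ln _ _]
  have hkall : ∀ x y : Ω, x ≠ y → (Ln G x y).card = k := fun x y hxy => Ln_card_eq h2 hxy hab
  have hfle : ∀ g ∈ (Hs G a b).erase 1, fx (X := Ω) g * (k - 1) ≤ n - 1 := by
    intro g hg
    obtain ⟨s', hs'⟩ : ∃ s' : Ω, g • s' ≠ s' := by
      by_contra hc
      push Not at hc
      exact (mem_erase.mp hg).1 (FaithfulSMul.eq_of_smul_eq_smul fun x : Ω => by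
        rw [one_smul]; exact hc x)
    exact fx_mul_le h2 hkall hs'
  have hsum : ∀ c M, (∀ g ∈ (Hs G a b).erase 1, c * fx (X := Ω) g ≤ M) →
      c * s ≤ (h - 1) * M := by
    intro c M hM
    rw [hsdef, mul_sum]
    refine (sum_le_sum hM).trans (le_of_eq ?_)
    rw [sum_const, card_erase_of_mem h1mem, smul_eq_mul]
  have hsmall : E = 0 → Small G a b := by
    intro hE0 x g hg g' hg'
    by_contra hc
    push Not at hc
    have hsub : ({x, g • x, g' • x} : Finset Ω) ⊆ orb (↥H) x := by
      intro z hz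
      simp only [mem_insert, mem_singleton] at hz
      rcases hz with rfl | rfl | rfl
      exacts [mem_orb_self _, mem_orb.mpr ⟨⟨g, (hHmem g).mpr hg⟩, rfl⟩,
        mem_orb.mpr ⟨⟨g', (hHmem g').mpr hg'⟩, rfl⟩]
    have := card_le_card hsub
    rw [card_eq_three.mpr ⟨x, g • x, g' • x, hc.1.symm, hc.2.1.symm, hc.2.2, rfl⟩] at this
    have := hbig x
    omega
  rcases (show k = 2 ∨ k = 3 ∨ 4 ≤ k by omega) with hk | hk | hk
  · -- lines of two points
    by_cases ho : 2 * o ≤ n
    · exact arith_two n h s o hh hso ho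
    rcases (show E = 0 ∨ E = 1 by omega) with hE0 | hE1
    · have := small_two h2 hab (by omega) (hsmall hE0) hk
      have hh2 : h = 2 := by omega
      have ho2 : 2 * o = n + 2 := by omega
      rw [hh2] at hso ⊢
      norm_num
      omega
    · exfalso
      obtain ⟨O, hO, hO0⟩ := exists_ne_zero_of_sum_ne_zero (hE ▸ (by omega : E ≠ 0))
      obtain ⟨x, -, rfl⟩ := mem_image.mp (mem_filter.mp hO).1
      have hx3 : (orb (↥H) x).card = 3 := by have := hbig x; omega
      refine no_triple_orbit h2 h7 hab H hHmem hx3 fun y hy => ?_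
      by_contra hy2
      have hyB : orb (↥H) y ∈ B := mem_filter.mpr ⟨mem_image_of_mem _ (mem_univ y), by omega⟩
      have hne : orb (↥H) x ≠ orb (↥H) y := fun e => hy (e ▸ mem_orb_self y)
      have := sum_le_sum_of_subset (f := fun O : Finset Ω => O.card - 2)
        (show ({orb (↥H) x, orb (↥H) y} : Finset (Finset Ω)) ⊆ B by
          intro O' hO'
          simp only [mem_insert, mem_singleton] at hO'
          rcases hO' with rfl | rfl
          exacts [hO, hyB])
      rw [sum_pair hne, ← hE] at this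
      omega
  · -- lines of three points
    have hk' : ∀ x y : Ω, x ≠ y → (Ln G x y).card = 3 := fun x y hxy => (hkall x y hxy).trans hk
    obtain ⟨m, hm⟩ : Odd n := odd_card h2 hk' a
    have hf2 : ∀ g ∈ (Hs G a b).erase 1, 2 * fx (X := Ω) g ≤ n - 1 := fun g hg => by
      have := hfle g hg
      rw [hk] at this
      omega
    by_cases ho : 2 * o ≤ n + 1
    · exact arith_mid n h s o hh (by omega) (hsum 2 (n - 1) hf2) hso ho
    have hE0 : E = 0 := by omega
    have hs := hsmall hE0
    rcases (show h = 2 ∨ 3 ≤ h by omega) with hh2 | hh3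
    · rw [hh2] at hso ⊢
      norm_num
      by_contra hlt
      exact no_degree_seven h2 (show n = 7 by omega)
        (by rw [card_eq_pairs h2 hab, ← hn, ← hhdef, hh2, show n = 7 by omega])
    refine arith_three n h s o hh (by omega) (hsum 2 (n - 3) fun g hg => ?_) hso (by omega)
    have h1 := hf2 g hg
    have h2' := small_three h2 hab hs hh3 hk' (mem_erase.mp hg).2 (mem_erase.mp hg).1
    omega
  · refine arith_four n h s hh (hsum 3 (n - 1) fun g hg => ?_)
    refine le_trans ?_ (hfle g hg)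
    rw [mul_comm]
    exact Nat.mul_le_mul_left _ (by omega)

end Cfsg.Agent.DerangeTwo
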