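import Cfsg.Agent.Lib.DerangeTwo.Bound

/-!
# At least `2 |G| / n` derangements

Classification-free: a transitive group of rank at least three has enough derangements by
counting orbits on pairs; in a doubly transitive group an element fixing two points fixes at most
`(n - 1) / (k - 1)` points, where `k` is the number of fixed points of a two-point stabilizer.
-/

set_option autoImplicit false

open Finset

namespace Cfsg.Agent.DerangeTwo

variable {G Ω : Type*} [Group G] [Fintype G] [DecidableEq G] [MulAction G Ω] [Fintype Ω]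
  [DecidableEq Ω] [FaithfulSMul G Ω]

/-- The number of derangements. -/
def der (G Ω : Type*) [Group G] [Fintype G] [MulAction G Ω] [Fintype Ω] [DecidableEq Ω] : ℕ :=
  ((univ : Finset G).filter fun g => fx (X := Ω) g = 0).card

/-- The weighted excess. -/
def excess (G Ω : Type*) [Group G] [Fintype G] [MulAction G Ω] [Fintype Ω] [DecidableEq Ω] : ℕ :=
  ∑ g : G, (fx (X := Ω) g - 1) * (Fintype.card Ω - fx (X := Ω) g)

lemma fx_le (g : G) : fx (X := Ω) g ≤ Fintype.card Ω := card_le_univ _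

lemma fx_prod (g : G) : fx (X := Ω × Ω) g = fx (X := Ω) g * fx (X := Ω) g := by
  unfold fx
  rw [← card_product]
  congr 1
  ext ⟨x, y⟩
  simp [Prod.smul_def]

lemma der_identity (htr : MulAction.IsPretransitive G Ω) [Nonempty Ω] :
    Fintype.card Ω * der G Ω + Fintype.card G =
      (orbs G (Ω × Ω)).card * Fintype.card G + excess G Ω := by
  set n := Fintype.card Ω with hn
  have horb : (orbs G Ω).card = 1 := by
    rw [card_eq_one]
    refine ⟨univ, eq_singleton_iff_unique_mem.mpr ?_⟩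
    have hall : ∀ x : Ω, orb G x = univ := fun x => eq_univ_iff_forall.mpr fun y =>
      mem_orb.mpr (htr.exists_smul_eq x y)
    refine ⟨mem_image.mpr ⟨Classical.arbitrary Ω, mem_univ _, hall _⟩, fun O hO => ?_⟩
    obtain ⟨x, -, rfl⟩ := mem_image.mp hO
    exact hall x
  have h1 := sum_fx (K := G) (X := Ω)
  have h2 := sum_fx (K := G) (X := Ω × Ω)
  rw [horb, one_mul] at h1
  simp only [fx_prod] at h2
  have hterm : ∀ g : G, ((fx (X := Ω) g - 1) * (n - fx (X := Ω) g) : ℕ) +
      fx (X := Ω) g * fx (X := Ω) g + n = (n + 1) * fx (X := Ω) g +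
        (if fx (X := Ω) g = 0 then n else 0) := by
    intro g
    have := fx_le (Ω := Ω) g
    split_ifs with h0
    · simp [h0]
    · obtain ⟨u, hu⟩ : ∃ u, fx (X := Ω) g = u + 1 := ⟨fx (X := Ω) g - 1, by omega⟩
      obtain ⟨v, hv⟩ : ∃ v, n = fx (X := Ω) g + v := ⟨n - fx (X := Ω) g, by omega⟩
      rw [hu, Nat.add_sub_cancel, show n - (u + 1) = v by omega, hv, hu]
      ring
  have hsum := sum_congr (s₁ := (univ : Finset G)) rfl fun g _ => hterm g
  rw [sum_add_distrib, sum_add_distrib, sum_add_distrib, h2, ← mul_sum, h1, sum_const, card_univ,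
    smul_eq_mul, ← sum_filter, sum_const, smul_eq_mul] at hsum
  simp only [excess, der]
  rw [← hn]
  linarith

open Classical in
lemma three_le_orbs (htr : MulAction.IsPretransitive G Ω) {a b : Ω} (hab : a ≠ b)
    (h : ¬ PairTrans G Ω) : 3 ≤ (orbs G (Ω × Ω)).card := by
  unfold PairTrans at h
  push Not at h
  obtain ⟨p, q, r, s, hpq, hrs, hno⟩ := h
  have hsub : ({orb G ((a, a) : Ω × Ω), orb G ((p, q) : Ω × Ω), orb G ((r, s) : Ω × Ω)} :
      Finset (Finset (Ω × Ω))) ⊆ orbs G (Ω × Ω) := by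
    intro O hO
    simp only [mem_insert, mem_singleton] at hO
    rcases hO with rfl | rfl | rfl <;> exact mem_image_of_mem _ (mem_univ _)
  have hdiag : ∀ c d : Ω, c ≠ d → orb G ((a, a) : Ω × Ω) ≠ orb G ((c, d) : Ω × Ω) := by
    intro c d hcd e
    obtain ⟨g, hg⟩ := mem_orb.mp (e ▸ mem_orb_self (K := G) ((c, d) : Ω × Ω))
    rw [Prod.smul_mk, Prod.mk.injEq] at hg
    exact hcd (hg.1.symm.trans hg.2)
  have hpr : orb G ((p, q) : Ω × Ω) ≠ orb G ((r, s) : Ω × Ω) := by
    intro e
    obtain ⟨g, hg⟩ := mem_orb.mp (e ▸ mem_orb_self (K := G) ((r, s) : Ω × Ω))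
    rw [Prod.smul_mk, Prod.mk.injEq] at hg
    exact hno g hg.1 hg.2
  have := card_le_card hsub
  rw [card_eq_three.mpr ⟨_, _, _, hdiag p q hpq, hdiag r s hrs, hpr, rfl⟩] at this
  exact this

lemma orbs_eq_two (htr : MulAction.IsPretransitive G Ω) (h2 : PairTrans G Ω) {a b : Ω}
    (hab : a ≠ b) : (orbs G (Ω × Ω)).card = 2 := by
  classical
  have hne : orb G ((a, a) : Ω × Ω) ≠ orb G ((a, b) : Ω × Ω) := by
    intro e
    obtain ⟨g, hg⟩ := mem_orb.mp (e ▸ mem_orb_self (K := G) ((a, b) : Ω × Ω))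
    rw [Prod.smul_mk, Prod.mk.injEq] at hg
    exact hab (hg.1.symm.trans hg.2)
  rw [← card_pair hne]
  congr 1
  ext O
  simp only [orbs, mem_image, mem_univ, true_and, mem_insert, mem_singleton]
  constructor
  · rintro ⟨⟨c, d⟩, rfl⟩
    by_cases hcd : c = d
    · subst hcd
      obtain ⟨g, hg⟩ := htr.exists_smul_eq a c
      exact .inl (orb_eq_of_mem (mem_orb.mpr ⟨g, by rw [Prod.smul_mk, hg]⟩))
    · obtain ⟨g, hg1, hg2⟩ := h2 a b c d hab hcd
      exact .inr (orb_eq_of_mem (mem_orb.mpr ⟨g, by rw [Prod.smul_mk, hg1, hg2]⟩))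
  · rintro (rfl | rfl) <;> exact ⟨_, rfl⟩

/-- In a doubly transitive group with nontrivial two-point stabilizers the excess is large. -/
theorem card_le_excess (h2 : PairTrans G Ω) (h7 : 7 ≤ Fintype.card Ω) {a b : Ω} (hab : a ≠ b)
    (hh : 2 ≤ (Hs G a b).card) : Fintype.card G ≤ excess G Ω := by
  set n := Fintype.card Ω with hn
  set h := (Hs G a b).card with hhdef
  set w : G → ℚ := fun g => ((n : ℚ) - fx (X := Ω) g) / fx (X := Ω) g with hw
  have hexc : (excess G Ω : ℚ) =
      ∑ p ∈ (univ : Finset Ω).offDiag, ∑ g ∈ Hs G p.1 p.2, w g := by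
    rw [excess, Nat.cast_sum]
    simp only [Hs, sum_filter]
    rw [sum_comm]
    refine sum_congr rfl fun g _ => ?_
    rw [← sum_filter, sum_const]
    have hF : ((univ : Finset Ω).offDiag.filter fun p => g • p.1 = p.1 ∧ g • p.2 = p.2) =
        ((univ : Finset Ω).filter fun x => g • x = x).offDiag := by
      ext ⟨x, y⟩
      simp only [mem_filter, mem_offDiag, mem_univ, true_and]
      tauto
    rw [hF, offDiag_card, nsmul_eq_mul, hw]
    change ((((fx (X := Ω) g - 1) * (n - fx (X := Ω) g) : ℕ)) : ℚ) =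
      ((fx (X := Ω) g * fx (X := Ω) g - fx (X := Ω) g : ℕ) : ℚ) * _
    have hle := fx_le (Ω := Ω) g
    rcases Nat.eq_zero_or_pos (fx (X := Ω) g) with h0 | h0
    · simp [h0]
    · have hsq : fx (X := Ω) g ≤ fx (X := Ω) g * fx (X := Ω) g := Nat.le_mul_self _
      have hne : (fx (X := Ω) g : ℚ) ≠ 0 := by positivity
      rw [Nat.cast_mul, Nat.cast_sub h0, Nat.cast_sub hle, Nat.cast_sub hsq, Nat.cast_mul]
      field_simp
      push_cast
      ring
  have hp : ∀ p ∈ (univ : Finset Ω).offDiag, (h : ℚ) ≤ ∑ g ∈ Hs G p.1 p.2, w g := by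
    rintro ⟨c, d⟩ hcd
    simp only [mem_offDiag, mem_univ, true_and] at hcd
    have hhc : (Hs G c d).card = h := Hs_card_eq h2 hcd hab
    have hb := fix_sum_bound h2 h7 hcd (by omega)
    rw [hhc] at hb
    have h1mem : (1 : G) ∈ Hs G c d := by simp
    set S := (Hs G c d).erase 1 with hS
    have hScard : (S.card : ℚ) = (h : ℚ) - 1 := by
      rw [hS, card_erase_of_mem h1mem, hhc, Nat.cast_sub (by omega), Nat.cast_one]
    have hpos : ∀ g ∈ S, (0 : ℚ) < fx (X := Ω) g := by
      intro g hg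
      have : 0 < fx (X := Ω) g :=
        card_pos.mpr ⟨c, by simp [(mem_Hs.mp (mem_of_mem_erase hg)).1]⟩
      exact_mod_cast this
    have hSne : S.Nonempty := card_pos.mp (by rw [hS, card_erase_of_mem h1mem]; omega)
    have hengel := sq_sum_div_le_sum_sq_div S (fun _ => (1 : ℚ)) hpos
    simp only [sum_const, nsmul_eq_mul, mul_one, one_pow] at hengel
    rw [hScard] at hengel
    set s := ∑ g ∈ S, (fx (X := Ω) g : ℚ) with hs
    have hspos : 0 < s := sum_pos hpos hSne
    have hb' : (2 * (h : ℚ) - 1) * s ≤ (n : ℚ) * ((h : ℚ) - 1) ^ 2 := by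
      have : (((2 * h - 1) * ∑ g ∈ S, fx (X := Ω) g : ℕ) : ℚ) ≤ ((n * (h - 1) ^ 2 : ℕ) : ℚ) :=
        Nat.cast_le.mpr hb
      push_cast [Nat.cast_sub (show 1 ≤ 2 * h by omega), Nat.cast_sub (show 1 ≤ h by omega)]
        at this
      exact this
    have hmain : 2 * (h : ℚ) - 1 ≤ (n : ℚ) * ∑ g ∈ S, 1 / (fx (X := Ω) g : ℚ) := by
      refine le_trans ?_ (mul_le_mul_of_nonneg_left hengel (Nat.cast_nonneg n))
      rw [mul_div_assoc', le_div_iff₀ hspos]
      exact hb'
    have hw1 : w 1 = 0 := by simp [hw, fx, hn]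
    rw [← sum_erase (Hs G c d) hw1, ← hS]
    calc (h : ℚ) ≤ (n : ℚ) * ∑ g ∈ S, 1 / (fx (X := Ω) g : ℚ) - S.card := by
          rw [hScard]; linarith
      _ = ∑ g ∈ S, w g := by
          rw [mul_sum, card_eq_sum_ones, Nat.cast_sum, ← sum_sub_distrib]
          refine sum_congr rfl fun g hg => ?_
          have := (hpos g hg).ne'
          rw [hw]
          field_simp
          push_cast
          ring
  have hfin : (Fintype.card G : ℚ) ≤ excess G Ω := by
    rw [hexc]
    refine le_trans (le_of_eq ?_) (sum_le_sum hp)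
    rw [sum_const, nsmul_eq_mul, card_eq_pairs h2 hab, offDiag_card, card_univ, ← hn, ← hhdef,
      Nat.cast_mul, Nat.mul_sub, mul_one]
  exact_mod_cast hfin

/-- The dichotomy. -/
theorem main (htr : MulAction.IsPretransitive G Ω) (h7 : 7 ≤ Fintype.card Ω) :
    ((∃ g : G, g ≠ 1 ∧ ∃ x : Ω, g • x = x) ∧ (∀ g : G, g ≠ 1 → fx (X := Ω) g ≤ 1) ∧
      Fintype.card G = Fintype.card Ω * (Fintype.card Ω - 1) ∧
      Fintype.card Ω * der G Ω = Fintype.card G) ∨
    2 * Fintype.card G ≤ Fintype.card Ω * der G Ω := by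
  classical
  obtain ⟨a, b, hab⟩ := Fintype.exists_pair_of_one_lt_card (show 1 < Fintype.card Ω by omega)
  have : Nonempty Ω := ⟨a⟩
  have hid := der_identity (G := G) htr
  by_cases h2 : PairTrans G Ω
  swap
  · right
    have := three_le_orbs htr hab h2
    have := Nat.mul_le_mul_right (Fintype.card G) this
    omega
  rw [orbs_eq_two htr h2 hab] at hid
  by_cases hh : 2 ≤ (Hs G a b).card
  · right
    have := card_le_excess h2 h7 hab hh
    omega
  left
  have hh1 : (Hs G a b).card = 1 := by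
    have : 0 < (Hs G a b).card := card_pos.mpr ⟨1, by simp⟩
    omega
  have hfrob : ∀ g : G, g ≠ 1 → fx (X := Ω) g ≤ 1 := by
    intro g hg
    by_contra h
    obtain ⟨c, hc, d, hd, hcd⟩ := one_lt_card.mp (show 1 < fx (X := Ω) g by omega)
    simp only [mem_filter, mem_univ, true_and] at hc hd
    exact hg (card_le_one.mp ((Hs_card_eq h2 hcd hab).trans hh1).le g (mem_Hs.mpr ⟨hc, hd⟩) 1
      (by simp))
  have hexc : excess G Ω = 0 := by
    refine sum_eq_zero fun g _ => ?_
    by_cases hg : g = 1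
    · subst hg; simp [fx]
    · have := hfrob g hg
      simp [Nat.sub_eq_zero_of_le this]
  have hcard : Fintype.card G = Fintype.card Ω * (Fintype.card Ω - 1) := by
    rw [card_eq_pairs h2 hab, hh1, mul_one]
  refine ⟨?_, hfrob, hcard, by omega⟩
  by_contra hc
  push Not at hc
  have hs := stab_mul_orb (K := G) a
  have h1 : ((univ : Finset G).filter fun g => g • a = a).card ≤ 1 := card_le_one.mpr
    fun u hu v hv => by
      simp only [mem_filter, mem_univ, true_and] at hu hv
      have : ∀ g : G, g • a = a → g = 1 := fun g hg => by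
        by_contra hne; exact hc g hne a hg
      rw [this u hu, this v hv]
  have h3 : (orb G a).card ≤ Fintype.card Ω := card_le_univ _
  have h4 := Nat.mul_le_mul h1 h3
  rw [hs, hcard] at h4
  have h5 : 6 * Fintype.card Ω ≤ Fintype.card Ω * (Fintype.card Ω - 1) := by
    rw [mul_comm 6]
    exact Nat.mul_le_mul le_rfl (by omega)
  omega

end Cfsg.Agent.DerangeTwo
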