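import Mathlib

/-!
# Orbits as finite sets, fixed point counts
-/

set_option autoImplicit false

open Finset

namespace Cfsg.Agent.DerangeTwo

variable {K X : Type*} [Group K] [Fintype K] [MulAction K X] [Fintype X] [DecidableEq X]

/-- The number of fixed points. -/
def fx (g : K) : ℕ := ((univ : Finset X).filter fun x => g • x = x).card

/-- An orbit as a finite set. -/
def orb (K : Type*) [Group K] [Fintype K] [MulAction K X] (x : X) : Finset X :=
  (univ : Finset K).image fun g => g • x

/-- All orbits. -/
def orbs (K X : Type*) [Group K] [Fintype K] [MulAction K X] [Fintype X] [DecidableEq X] :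
    Finset (Finset X) := (univ : Finset X).image (orb K)

lemma mem_orb {x y : X} : y ∈ orb K x ↔ ∃ g : K, g • x = y := by simp [orb]

lemma mem_orb_self (x : X) : x ∈ orb K x := mem_orb.mpr ⟨1, one_smul K x⟩

lemma orb_eq_of_mem {x y : X} (h : y ∈ orb K x) : orb K y = orb K x := by
  obtain ⟨g, rfl⟩ := mem_orb.mp h
  ext z
  simp only [mem_orb]
  constructor
  · rintro ⟨u, rfl⟩; exact ⟨u * g, mul_smul u g x⟩
  · rintro ⟨u, rfl⟩; exact ⟨u * g⁻¹, by rw [mul_smul, inv_smul_smul]⟩

lemma orb_pos {O : Finset X} (hO : O ∈ orbs K X) : 0 < O.card := by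
  obtain ⟨x, -, rfl⟩ := mem_image.mp hO
  exact card_pos.mpr ⟨x, mem_orb_self x⟩

lemma fibre_eq {O : Finset X} (hO : O ∈ orbs K X) :
    ((univ : Finset X).filter fun x => orb K x = O) = O := by
  obtain ⟨x, -, rfl⟩ := mem_image.mp hO
  ext y
  simp only [mem_filter, mem_univ, true_and]
  exact ⟨fun h => h ▸ mem_orb_self y, orb_eq_of_mem⟩

lemma sum_card_orbs : ∑ O ∈ orbs K X, O.card = Fintype.card X := by
  rw [← card_univ, card_eq_sum_card_image (orb K) (univ : Finset X)]
  exact sum_congr rfl fun O hO => (congrArg card (fibre_eq hO)).symm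

lemma stab_mul_orb [DecidableEq K] (x : X) :
    ((univ : Finset K).filter fun g => g • x = x).card * (orb K x).card = Fintype.card K := by
  have h := card_eq_sum_card_image (fun g : K => g • x) (univ : Finset K)
  rw [card_univ] at h
  rw [h, sum_congr rfl (fun y hy => ?_), sum_const, smul_eq_mul, mul_comm]
  · rfl
  obtain ⟨g, -, rfl⟩ := mem_image.mp hy
  refine card_bij (fun u _ => g⁻¹ * u) ?_ (fun _ _ _ _ e => mul_left_cancel e) ?_
  · intro u hu
    simp only [mem_filter, mem_univ, true_and] at hu ⊢
    rw [mul_smul, hu, inv_smul_smul]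
  · intro u hu
    simp only [mem_filter, mem_univ, true_and] at hu
    refine ⟨g * u, ?_, inv_mul_cancel_left g u⟩
    simp only [mem_filter, mem_univ, true_and]
    rw [mul_smul, hu]

/-- The orbit counting lemma. -/
lemma sum_fx [DecidableEq K] :
    ∑ g : K, fx (X := X) g = (orbs K X).card * Fintype.card K := by
  have h1 : ∑ g : K, fx (X := X) g =
      ∑ x : X, ((univ : Finset K).filter fun g => g • x = x).card := by
    simp only [fx, card_filter]
    rw [sum_comm]
  rw [h1, ← sum_fiberwise_of_maps_to (g := orb K) (t := orbs K X)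
    (fun x _ => mem_image_of_mem _ (mem_univ x)),
    sum_congr rfl (fun O hO => ?_), sum_const, smul_eq_mul]
  rw [fibre_eq hO]
  have hpos := orb_pos hO
  have key : (∑ x ∈ O, ((univ : Finset K).filter fun g => g • x = x).card) * O.card =
      O.card * Fintype.card K := by
    rw [sum_mul, sum_congr rfl (fun x hx => ?_), sum_const, smul_eq_mul]
    obtain ⟨y, -, rfl⟩ := mem_image.mp hO
    rw [← orb_eq_of_mem hx, stab_mul_orb x]
  rw [mul_comm O.card] at key
  exact Nat.eq_of_mul_eq_mul_right hpos key

end Cfsg.Agent.DerangeTwo
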