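import Cfsg.Agent.Lib.DerangeTwo.Orbits

/-!
# Two-point stabilizers of doubly transitive groups
-/

set_option autoImplicit false

open Finset

namespace Cfsg.Agent.DerangeTwo

variable {G Ω : Type*} [Group G] [Fintype G] [DecidableEq G] [MulAction G Ω] [Fintype Ω]
  [DecidableEq Ω]

/-- Ordered pairs of distinct points form one orbit. -/
def PairTrans (G Ω : Type*) [Group G] [MulAction G Ω] : Prop :=
  ∀ a b c d : Ω, a ≠ b → c ≠ d → ∃ g : G, g • a = c ∧ g • b = d

/-- The two-point stabilizer as a finite set. -/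
def Hs (G : Type*) [Group G] [Fintype G] [MulAction G Ω] (a b : Ω) : Finset G :=
  (univ : Finset G).filter fun g => g • a = a ∧ g • b = b

/-- The fixed points of the two-point stabilizer. -/
def Ln (G : Type*) [Group G] [Fintype G] [DecidableEq G] [MulAction G Ω] (a b : Ω) : Finset Ω :=
  (univ : Finset Ω).filter fun x => ∀ g ∈ Hs G a b, g • x = x

@[simp] lemma mem_Hs {a b : Ω} {g : G} : g ∈ Hs G a b ↔ g • a = a ∧ g • b = b := by simp [Hs]

@[simp] lemma mem_Ln {a b x : Ω} : x ∈ Ln G a b ↔ ∀ g ∈ Hs G a b, g • x = x := by simp [Ln]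

lemma Hs_comm (a b : Ω) : Hs G a b = Hs G b a := by ext g; simp [and_comm]

lemma left_mem_Ln (a b : Ω) : a ∈ Ln G a b := mem_Ln.mpr fun _ hg => (mem_Hs.mp hg).1

lemma right_mem_Ln (a b : Ω) : b ∈ Ln G a b := mem_Ln.mpr fun _ hg => (mem_Hs.mp hg).2

lemma conj_mem_Hs {g u : G} {a b : Ω} :
    u * g * u⁻¹ ∈ Hs G (u • a) (u • b) ↔ g ∈ Hs G a b := by
  simp only [mem_Hs, mul_smul, inv_smul_smul, smul_left_cancel_iff]

lemma Hs_card_eq (h2 : PairTrans G Ω) {a b c d : Ω} (hab : a ≠ b) (hcd : c ≠ d) :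
    (Hs G a b).card = (Hs G c d).card := by
  obtain ⟨u, rfl, rfl⟩ := h2 a b c d hab hcd
  refine card_bij (fun g _ => u * g * u⁻¹) (fun g hg => conj_mem_Hs.mpr hg)
    (fun _ _ _ _ e => mul_left_cancel (mul_right_cancel e)) fun g hg => ?_
  refine ⟨u⁻¹ * g * u, (conj_mem_Hs (u := u)).mp ?_, by group⟩
  rwa [show u * (u⁻¹ * g * u) * u⁻¹ = g by group]

lemma Ln_card_eq (h2 : PairTrans G Ω) {a b c d : Ω} (hab : a ≠ b) (hcd : c ≠ d) :
    (Ln G a b).card = (Ln G c d).card := by
  obtain ⟨u, rfl, rfl⟩ := h2 a b c d hab hcd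
  refine card_bij (fun x _ => u • x) ?_ (fun _ _ _ _ e => MulAction.injective u e) ?_
  · intro x hx
    rw [mem_Ln] at hx ⊢
    intro g hg
    have h1 : u⁻¹ * g * u ∈ Hs G a b := (conj_mem_Hs (u := u)).mp (by
      rwa [show u * (u⁻¹ * g * u) * u⁻¹ = g by group])
    have := hx _ h1
    rwa [mul_smul, mul_smul, inv_smul_eq_iff] at this
  · intro x hx
    refine ⟨u⁻¹ • x, ?_, smul_inv_smul u x⟩
    rw [mem_Ln] at hx ⊢
    intro g hg
    have := hx _ ((conj_mem_Hs (u := u)).mpr hg)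
    rw [mul_smul, mul_smul] at this
    rw [eq_inv_smul_iff]
    exact this

/-- Two points on a line determine it. -/
lemma Hs_eq_of_mem_Ln (h2 : PairTrans G Ω) {a b x y : Ω} (hab : a ≠ b) (hxy : x ≠ y)
    (hx : x ∈ Ln G a b) (hy : y ∈ Ln G a b) : Hs G x y = Hs G a b :=
  (eq_of_subset_of_card_le (fun g hg => mem_Hs.mpr ⟨mem_Ln.mp hx g hg, mem_Ln.mp hy g hg⟩)
    (Hs_card_eq h2 hxy hab).le).symm

lemma Ln_eq_of_mem_Ln (h2 : PairTrans G Ω) {a b x y : Ω} (hab : a ≠ b) (hxy : x ≠ y)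
    (hx : x ∈ Ln G a b) (hy : y ∈ Ln G a b) : Ln G x y = Ln G a b := by
  unfold Ln
  rw [Hs_eq_of_mem_Ln h2 hab hxy hx hy]

/-- An element with a moved point fixes at most one point of each line through it. -/
theorem fx_mul_le (h2 : PairTrans G Ω) {g : G} {k : ℕ}
    (hk : ∀ a b : Ω, a ≠ b → (Ln G a b).card = k) {s : Ω} (hs : g • s ≠ s) :
    fx (X := Ω) g * (k - 1) ≤ Fintype.card Ω - 1 := by
  set F := (univ : Finset Ω).filter fun x => g • x = x with hF
  have hne : ∀ x ∈ F, s ≠ x := fun x hx e => hs (by subst e; simpa [hF] using hx)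
  have hdis : (F : Set Ω).PairwiseDisjoint fun x => (Ln G s x).erase s := by
    intro x hx y hy hxy
    rw [mem_coe] at hx hy
    simp only [Function.onFun]
    rw [disjoint_left]
    intro z hz hz'
    rw [mem_erase] at hz hz'
    apply hs
    have h1 : Ln G s x = Ln G s y := by
      rw [← Ln_eq_of_mem_Ln h2 (hne x hx) hz.1.symm (left_mem_Ln s x) hz.2,
        ← Ln_eq_of_mem_Ln h2 (hne y hy) hz'.1.symm (left_mem_Ln s y) hz'.2]
    have h3 : Hs G x y = Hs G s x :=
      Hs_eq_of_mem_Ln h2 (hne x hx) hxy (right_mem_Ln s x) (h1 ▸ right_mem_Ln s y)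
    have hgm : g ∈ Hs G s x := h3 ▸ mem_Hs.mpr ⟨by simpa [hF] using hx, by simpa [hF] using hy⟩
    exact (mem_Hs.mp hgm).1
  calc fx (X := Ω) g * (k - 1) = (F.biUnion fun x => (Ln G s x).erase s).card := by
        rw [card_biUnion hdis, sum_congr rfl (fun x hx => by
          rw [card_erase_of_mem (left_mem_Ln s x), hk s x (hne x hx)]), sum_const, smul_eq_mul]
        rfl
    _ ≤ ((univ : Finset Ω).erase s).card := card_le_card fun z hz => by
        obtain ⟨x, -, hz⟩ := mem_biUnion.mp hz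
        exact mem_erase.mpr ⟨(mem_erase.mp hz).1, mem_univ z⟩
    _ = Fintype.card Ω - 1 := by rw [card_erase_of_mem (mem_univ s), card_univ]

/-- If half of the other points are fixed, the fixed set meets all its translates. -/
theorem fixed_meet (h2 : PairTrans G Ω) (hk : ∀ a b : Ω, a ≠ b → (Ln G a b).card = 3)
    {g g' : G} (hg : 2 * fx (X := Ω) g + 1 = Fintype.card Ω) (hg' : 2 ≤ fx (X := Ω) g') :
    ∃ z : Ω, g • z = z ∧ g' • z = z := by
  set F := (univ : Finset Ω).filter fun x => g • x = x with hF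
  obtain ⟨a, ha, b, hb, hab⟩ := one_lt_card.mp hg'
  simp only [mem_filter, mem_univ, true_and] at ha hb
  by_cases hga : g • a = a
  · exact ⟨a, hga, ha⟩
  have hne : ∀ x ∈ F, a ≠ x := fun x hx e => hga (by subst e; simpa [hF] using hx)
  have hdis : (F : Set Ω).PairwiseDisjoint fun x => (Ln G a x).erase a := by
    intro x hx y hy hxy
    rw [mem_coe] at hx hy
    simp only [Function.onFun]
    rw [disjoint_left]
    intro z hz hz'
    rw [mem_erase] at hz hz'
    apply hga
    have h1 : Ln G a x = Ln G a y := by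
      rw [← Ln_eq_of_mem_Ln h2 (hne x hx) hz.1.symm (left_mem_Ln a x) hz.2,
        ← Ln_eq_of_mem_Ln h2 (hne y hy) hz'.1.symm (left_mem_Ln a y) hz'.2]
    have h3 : Hs G x y = Hs G a x :=
      Hs_eq_of_mem_Ln h2 (hne x hx) hxy (right_mem_Ln a x) (h1 ▸ right_mem_Ln a y)
    have hgm : g ∈ Hs G a x := h3 ▸ mem_Hs.mpr ⟨by simpa [hF] using hx, by simpa [hF] using hy⟩
    exact (mem_Hs.mp hgm).1
  have hfull : (F.biUnion fun x => (Ln G a x).erase a) = (univ : Finset Ω).erase a := by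
    refine eq_of_subset_of_card_le (fun z hz => ?_) ?_
    · obtain ⟨x, -, hz⟩ := mem_biUnion.mp hz
      exact mem_erase.mpr ⟨(mem_erase.mp hz).1, mem_univ z⟩
    · rw [card_biUnion hdis, sum_congr rfl (fun x hx => by
        rw [card_erase_of_mem (left_mem_Ln a x), hk a x (hne x hx)]), sum_const, smul_eq_mul,
        card_erase_of_mem (mem_univ a), card_univ]
      change _ ≤ F.card * _
      have : F.card = fx (X := Ω) g := rfl
      omega
  have hb' : b ∈ F.biUnion fun x => (Ln G a x).erase a :=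
    hfull ▸ mem_erase.mpr ⟨hab.symm, mem_univ b⟩
  obtain ⟨x, hx, hbx⟩ := mem_biUnion.mp hb'
  refine ⟨x, by simpa [hF] using hx, ?_⟩
  have h4 := Ln_eq_of_mem_Ln h2 (hne x hx) hab (left_mem_Ln a x) (mem_erase.mp hbx).2
  have h5 : x ∈ Ln G a b := h4 ▸ right_mem_Ln a x
  exact mem_Ln.mp h5 g' (mem_Hs.mpr ⟨ha, hb⟩)

/-- When lines have three points the degree is odd. -/
theorem odd_card (h2 : PairTrans G Ω) (hk : ∀ a b : Ω, a ≠ b → (Ln G a b).card = 3) (a : Ω) :
    Odd (Fintype.card Ω) := by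
  have key : ∀ x : Ω, x ≠ a → ∃ y, ((Ln G a x).erase a).erase x = {y} := fun x hx =>
    card_eq_one.mp (by
      rw [card_erase_of_mem (mem_erase.mpr ⟨hx, right_mem_Ln a x⟩),
        card_erase_of_mem (left_mem_Ln a x), hk a x hx.symm])
  choose y hy using key
  have hmem : ∀ x (hx : x ≠ a), y x hx ≠ x ∧ y x hx ≠ a ∧ y x hx ∈ Ln G a x := fun x hx => by
    have := (hy x hx).ge (mem_singleton_self (y x hx))
    simp only [mem_erase] at this
    exact this
  let f : Ω → Ω := fun x => if hx : x ≠ a then y x hx else x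
  have heven : (((univ : Finset Ω).erase a).card : ZMod 2) = 0 := by
    rw [card_eq_sum_ones, Nat.cast_sum]
    refine sum_involution (fun x _ => f x) ?_ ?_ ?_ ?_
    · intro x _; decide
    · intro x hx _
      have hxa := (mem_erase.mp hx).1
      simp only [f, dif_pos hxa]
      exact (hmem x hxa).1
    · intro x hx
      have hxa := (mem_erase.mp hx).1
      simp only [f, dif_pos hxa]
      exact mem_erase.mpr ⟨(hmem x hxa).2.1, mem_univ _⟩
    · intro x hx
      have hxa := (mem_erase.mp hx).1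
      obtain ⟨h1, h2', h3⟩ := hmem x hxa
      simp only [f, dif_pos hxa, dif_pos h2']
      have hL := Ln_eq_of_mem_Ln h2 hxa.symm h2'.symm (left_mem_Ln a x) h3
      have hxm : x ∈ ((Ln G a (y x hxa)).erase a).erase (y x hxa) := by
        simp only [mem_erase]
        exact ⟨h1.symm, hxa, hL ▸ right_mem_Ln a x⟩
      rw [hy _ h2', mem_singleton] at hxm
      exact hxm.symm
  rw [card_erase_of_mem (mem_univ a), card_univ, ZMod.natCast_eq_zero_iff_even] at heven
  have := Fintype.card_pos_iff.mpr ⟨a⟩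
  obtain ⟨m, hm⟩ := heven
  exact ⟨m, by omega⟩

end Cfsg.Agent.DerangeTwo
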