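import Cfsg.Agent.Lib.DerangeTwo.Pairs

/-!
# Two-point stabilizers with all orbits of length at most two
-/

set_option autoImplicit false

open Finset

namespace Cfsg.Agent.DerangeTwo

variable {G Ω : Type*} [Group G] [Fintype G] [DecidableEq G] [MulAction G Ω] [Fintype Ω]
  [DecidableEq Ω]

/-- All orbits of the two-point stabilizer have at most two points. -/
def Small (G : Type*) [Group G] [Fintype G] [MulAction G Ω] [DecidableEq Ω] (a b : Ω) : Prop :=
  ∀ x : Ω, ∀ g ∈ Hs G a b, ∀ g' ∈ Hs G a b, g • x = x ∨ g' • x = x ∨ g • x = g' • x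

lemma Small.all (h2 : PairTrans G Ω) {a b : Ω} (hab : a ≠ b) (h : Small G a b) {c d : Ω}
    (hcd : c ≠ d) : Small G c d := by
  obtain ⟨u, rfl, rfl⟩ := h2 a b c d hab hcd
  intro x g hg g' hg'
  have key : ∀ g ∈ Hs G (u • a) (u • b), u⁻¹ * g * u ∈ Hs G a b := fun g hg =>
    (conj_mem_Hs (u := u)).mp (by rwa [show u * (u⁻¹ * g * u) * u⁻¹ = g by group])
  have := h (u⁻¹ • x) _ (key g hg) _ (key g' hg')
  simpa [mul_smul] using this

variable [FaithfulSMul G Ω]

lemma Small.sq {a b : Ω} (h : Small G a b) {g : G} (hg : g ∈ Hs G a b) : g * g = 1 := by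
  refine FaithfulSMul.eq_of_smul_eq_smul fun x : Ω => ?_
  rw [one_smul]
  have hg2 : g * g ∈ Hs G a b := by
    rw [mem_Hs] at hg ⊢
    exact ⟨by rw [mul_smul, hg.1, hg.1], by rw [mul_smul, hg.2, hg.2]⟩
  rcases h x g hg (g * g) hg2 with e | e | e
  · rw [mul_smul, e, e]
  · exact e
  · rw [mul_smul] at e
    rw [mul_smul, ← e, MulAction.injective g e.symm]

lemma Small.commute {a b : Ω} (h : Small G a b) {g g' : G} (hg : g ∈ Hs G a b)
    (hg' : g' ∈ Hs G a b) : Commute g g' := by
  have hgg : g * g' ∈ Hs G a b := by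
    rw [mem_Hs] at hg hg' ⊢
    exact ⟨by rw [mul_smul, hg'.1, hg.1], by rw [mul_smul, hg'.2, hg.2]⟩
  have h1 : g⁻¹ = g := inv_eq_of_mul_eq_one_right (h.sq hg)
  have h2 : g'⁻¹ = g' := inv_eq_of_mul_eq_one_right (h.sq hg')
  have h3 : (g * g')⁻¹ = g * g' := inv_eq_of_mul_eq_one_right (h.sq hgg)
  rw [mul_inv_rev, h1, h2] at h3
  exact h3.symm

lemma exists_moving (h2 : PairTrans G Ω) {a b c : Ω} (hab : a ≠ b) (hac : a ≠ c)
    (hne : Hs G a b ≠ Hs G a c) : ∃ t ∈ Hs G a b, t • c ≠ c := by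
  by_contra h
  push Not at h
  exact hne (eq_of_subset_of_card_le (fun g hg => mem_Hs.mpr ⟨(mem_Hs.mp hg).1, h g hg⟩)
    (Hs_card_eq h2 hac hab).le)

/-- Two-point stabilizers through a common point commute. -/
theorem Small.commute_through (h2 : PairTrans G Ω) {a b c : Ω} (hab : a ≠ b) (hac : a ≠ c)
    (hs : ∀ x y : Ω, x ≠ y → Small G x y) (hh : 3 ≤ (Hs G a b).card) {w w' : G}
    (hw : w ∈ Hs G a b) (hw' : w' ∈ Hs G a c) : Commute w w' := by
  by_cases heq : Hs G a b = Hs G a c
  · exact (hs a b hab).commute hw (heq ▸ hw')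
  obtain ⟨t, ht, htc⟩ := exists_moving h2 hab hac heq
  obtain ⟨t', ht', ht'b⟩ := exists_moving h2 hac hab (Ne.symm heq)
  -- a nonidentity element fixing all of `a, b, c`
  have hmove : ∀ {p q r : Ω} {s : G}, Small G p q → s ∈ Hs G p q → s • r ≠ r → ∀ z ∈ Hs G p q,
      z • r = r ∨ (s⁻¹ * z) • r = r := by
    intro p q r s hpq hs hsr z hz
    rcases hpq r s hs z hz with e | e | e
    · exact absurd e hsr
    · exact .inl e
    · exact .inr (by rw [mul_smul, ← e, inv_smul_smul])
  have hinv : ∀ {p q : Ω} {s z : G}, s ∈ Hs G p q → z ∈ Hs G p q → s⁻¹ * z ∈ Hs G p q := by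
    intro p q s z hs hz
    rw [mem_Hs] at hs hz ⊢
    exact ⟨by rw [mul_smul, hz.1, inv_smul_eq_iff, hs.1],
      by rw [mul_smul, hz.2, inv_smul_eq_iff, hs.2]⟩
  obtain ⟨q, hq, hqc, hq1⟩ : ∃ q ∈ Hs G a b, q • c = c ∧ q ≠ 1 := by
    obtain ⟨z, hz, hz1, hzt⟩ : ∃ z ∈ Hs G a b, z ≠ 1 ∧ z ≠ t := by
      by_contra hcon
      push Not at hcon
      have : (Hs G a b).card ≤ ({1, t} : Finset G).card := card_le_card fun z hz => by
        by_cases e : z = 1
        · simp [e]
        · simp [hcon z hz e]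
      have := this.trans card_le_two
      omega
    rcases hmove (hs a b hab) ht htc z hz with e | e
    · exact ⟨z, hz, e, hz1⟩
    · exact ⟨_, hinv ht hz, e, fun e' => hzt (inv_mul_eq_one.mp e').symm⟩
  obtain ⟨d, hd⟩ : ∃ d : Ω, q • d ≠ d := by
    by_contra h
    push Not at h
    exact hq1 (FaithfulSMul.eq_of_smul_eq_smul fun x : Ω => by rw [one_smul]; exact h x)
  have hda : a ≠ d := fun e => hd (e ▸ (mem_Hs.mp hq).1)
  have hqK : q ∈ Hs G a c := mem_Hs.mpr ⟨(mem_Hs.mp hq).1, hqc⟩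
  have hpick : ∀ {y z : Ω} {s : G}, Small G a y → s ∈ Hs G a y → s • z ≠ z → q ∈ Hs G a y →
      q • z = z → ∃ u ∈ Hs G a y, u ∈ Hs G a d ∧ u • z ≠ z := by
    intro y z s hy hs hsz hqy hqz
    rcases hmove hy hqy hd s hs with e | e
    · exact ⟨s, hs, mem_Hs.mpr ⟨(mem_Hs.mp hs).1, e⟩, hsz⟩
    · refine ⟨_, hinv hqy hs, mem_Hs.mpr ⟨(mem_Hs.mp (hinv hqy hs)).1, e⟩, fun e' => hsz ?_⟩
      rw [mul_smul, inv_smul_eq_iff, hqz] at e'
      exact e'
  obtain ⟨u, hu, hud, huc⟩ := hpick (hs a b hab) ht htc hq hqc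
  obtain ⟨v, hv, hvd, hvb⟩ := hpick (hs a c hac) ht' ht'b hqK (mem_Hs.mp hq).2
  have hcuv : Commute u v := (hs a d hda).commute hud hvd
  have hK : ∀ {s : G}, s ∈ Hs G a b → s • c = c → s ∈ Hs G a c := fun hs e =>
    mem_Hs.mpr ⟨(mem_Hs.mp hs).1, e⟩
  have hK' : ∀ {s : G}, s ∈ Hs G a c → s • b = b → s ∈ Hs G a b := fun hs e =>
    mem_Hs.mpr ⟨(mem_Hs.mp hs).1, e⟩
  -- elements fixing `a, b, c` commute with both stabilizers
  have hu_w' : Commute u w' := by
    rcases hmove (hs a c hac) hv hvb w' hw' with e | e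
    · exact (hs a b hab).commute hu (hK' hw' e)
    · have := hcuv.mul_right ((hs a b hab).commute hu (hK' (hinv hv hw') e))
      rwa [mul_inv_cancel_left] at this
  rcases hmove (hs a b hab) hu huc w hw with e | e
  · exact (hs a c hac).commute (hK hw e) hw'
  · have := hu_w'.mul_left ((hs a c hac).commute (hK (hinv hu hw) e) hw')
    rwa [mul_inv_cancel_left] at this

/-- With lines of two points the stabilizers have order two. -/
theorem small_two (h2 : PairTrans G Ω) {a b : Ω} (hab : a ≠ b) (hn : 3 ≤ Fintype.card Ω)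
    (hs : Small G a b) (hk : (Ln G a b).card = 2) : (Hs G a b).card ≤ 2 := by
  by_contra hh
  push Not at hh
  obtain ⟨c, hc⟩ : ∃ c, c ∉ Ln G a b := by
    by_contra h
    push Not at h
    have := card_le_card (s := (univ : Finset Ω)) (t := Ln G a b) fun x _ => h x
    rw [card_univ] at this
    omega
  have hac : a ≠ c := fun e => hc (e ▸ left_mem_Ln a b)
  have hL : Ln G a b = {a, b} := by
    refine (eq_of_subset_of_card_le ?_ (by rw [hk, card_pair hab])).symm
    intro x hx
    simp only [mem_insert, mem_singleton] at hx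
    rcases hx with rfl | rfl
    exacts [left_mem_Ln _ _, right_mem_Ln _ _]
  have hsub : Hs G a c ⊆ Hs G a b := by
    intro g hg
    have hmem : g • b ∈ Ln G a b := mem_Ln.mpr fun w hw => by
      rw [← mul_smul, (Small.commute_through h2 hab hac (fun x y => hs.all h2 hab) hh hw hg).eq,
        mul_smul, (mem_Hs.mp hw).2]
    rw [hL, mem_insert, mem_singleton] at hmem
    rcases hmem with e | e
    · exact absurd (MulAction.injective g (e.trans (mem_Hs.mp hg).1.symm)) hab.symm
    · exact mem_Hs.mpr ⟨(mem_Hs.mp hg).1, e⟩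
  have heq := eq_of_subset_of_card_le hsub (Hs_card_eq h2 hab hac).le
  exact hc (mem_Ln.mpr fun g hg => (mem_Hs.mp (heq ▸ hg : g ∈ Hs G a c)).2)

/-- With lines of three points nobody fixes half of the other points. -/
theorem small_three (h2 : PairTrans G Ω) {a b : Ω} (hab : a ≠ b) (hs : Small G a b)
    (hh : 3 ≤ (Hs G a b).card) (hk : ∀ x y : Ω, x ≠ y → (Ln G x y).card = 3) {g : G}
    (hg : g ∈ Hs G a b) (hg1 : g ≠ 1) : 2 * fx (X := Ω) g + 1 ≠ Fintype.card Ω := by
  intro he
  obtain ⟨s, hsne⟩ : ∃ s : Ω, g • s ≠ s := by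
    by_contra h
    push Not at h
    exact hg1 (FaithfulSMul.eq_of_smul_eq_smul fun x : Ω => by rw [one_smul]; exact h x)
  have has : a ≠ s := fun e => hsne (e ▸ (mem_Hs.mp hg).1)
  obtain ⟨u, hu1, hu2⟩ := h2 s (g • s) a s hsne.symm has
  set g' := u * g * u⁻¹ with hg'def
  have hg'a : g' • a = s := by
    rw [hg'def, mul_smul, mul_smul, inv_smul_eq_iff.mpr hu1.symm, hu2]
  have hg'mem : g' ∈ Hs G (u • a) (u • b) := conj_mem_Hs.mpr hg
  have hne' : u • a ≠ u • b := fun e => hab (MulAction.injective u e)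
  have hfix2 : 2 ≤ fx (X := Ω) g' := by
    have : ({u • a, u • b} : Finset Ω) ⊆ (univ : Finset Ω).filter fun x => g' • x = x := by
      intro x hx
      simp only [mem_insert, mem_singleton] at hx
      simp only [mem_filter, mem_univ, true_and]
      rcases hx with rfl | rfl
      exacts [(mem_Hs.mp hg'mem).1, (mem_Hs.mp hg'mem).2]
    have := card_le_card this
    rw [card_pair hne'] at this
    exact this
  obtain ⟨z, hgz, hg'z⟩ := fixed_meet h2 hk he hfix2
  obtain ⟨p, hp, hzp⟩ : ∃ p, g • p = p ∧ p ≠ z := by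
    by_cases e : a = z
    · exact ⟨b, (mem_Hs.mp hg).2, fun e' => hab (e.trans e'.symm)⟩
    · exact ⟨a, (mem_Hs.mp hg).1, e⟩
  obtain ⟨p', hp', hzp'⟩ : ∃ p', g' • p' = p' ∧ p' ≠ z := by
    by_cases e : u • a = z
    · exact ⟨u • b, (mem_Hs.mp hg'mem).2, fun e' => hne' (e.trans e'.symm)⟩
    · exact ⟨u • a, (mem_Hs.mp hg'mem).1, e⟩
  have hc := Small.commute_through h2 hzp.symm hzp'.symm (fun x y => hs.all h2 hab)
    (by rw [Hs_card_eq h2 hzp.symm hab]; exact hh) (mem_Hs.mpr ⟨hgz, hp⟩) (mem_Hs.mpr ⟨hg'z, hp'⟩)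
  apply hsne
  rw [← hg'a, ← mul_smul, hc.eq, mul_smul, (mem_Hs.mp hg).1]

/-- There is no such group of degree seven and order `84`. -/
theorem no_degree_seven (h2 : PairTrans G Ω) (h7 : Fintype.card Ω = 7)
    (hG : Fintype.card G = 84) : False := by
  have : Fact (Nat.Prime 7) := ⟨by norm_num⟩
  obtain ⟨P⟩ := (inferInstance : Nonempty (Sylow 7 G))
  have hPc : Nat.card P = 7 := by
    rw [Sylow.card_eq_multiplicity, Nat.card_eq_fintype_card, hG]
    rw [show (84 : ℕ) = 7 ^ 1 * 12 by norm_num, Nat.factorization_mul (by norm_num) (by norm_num)]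
    rw [Finsupp.add_apply, Nat.Prime.factorization_pow (by norm_num)]
    simp [Nat.factorization_eq_zero_of_not_dvd]
  have hidx : (P : Subgroup G).index = 12 := by
    have := (P : Subgroup G).card_mul_index
    rw [hPc, Nat.card_eq_fintype_card, hG] at this
    omega
  have h1 : Nat.card (Sylow 7 G) = 1 := by
    have hd := P.card_dvd_index
    rw [hidx] at hd
    have hm := card_sylow_modEq_one 7 G
    have hle := Nat.le_of_dvd (by norm_num) hd
    unfold Nat.ModEq at hm
    interval_cases h : Nat.card (Sylow 7 G) <;> omega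
  have : Subsingleton (Sylow 7 G) := (Nat.card_eq_one_iff_unique.mp h1).1
  have hPn : (P : Subgroup G).Normal := P.normal_of_subsingleton
  classical
  haveI : Fintype (P : Subgroup G) := Fintype.ofFinite _
  have hPc' : Fintype.card (P : Subgroup G) = 7 := by rw [← Nat.card_eq_fintype_card]; exact hPc
  obtain ⟨⟨q, hq⟩, hq1⟩ := Fintype.exists_ne_of_one_lt_card (by omega) (1 : (P : Subgroup G))
  obtain ⟨s, hs⟩ : ∃ s : Ω, q • s ≠ s := by
    by_contra h
    push Not at h
    exact hq1 (Subtype.ext (FaithfulSMul.eq_of_smul_eq_smul fun x : Ω => by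
      simpa using h x))
  have hgen : Subgroup.zpowers q = (P : Subgroup G) := by
    refine Subgroup.eq_of_le_of_card_ge (Subgroup.zpowers_le.mpr hq) ?_
    rw [hPc, Nat.card_zpowers]
    have hd : orderOf q ∣ 7 := by
      rw [← hPc]; exact Subgroup.orderOf_dvd_natCard _ hq
    rcases (Nat.dvd_prime (by norm_num)).mp hd with e | e
    · exact absurd (Subtype.ext (orderOf_eq_one_iff.mp e)) hq1
    · omega
  have horb : ∀ x : Ω, ∃ p ∈ (P : Subgroup G), p • s = x := by
    have h' := stab_mul_orb (K := ↥(P : Subgroup G)) s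
    rw [hPc'] at h'
    have hd : (orb ↥(P : Subgroup G) s).card = 7 := by
      rcases (Nat.dvd_prime (by norm_num)).mp (Dvd.intro_left _ h') with e | e
      · exfalso
        obtain ⟨z, hz⟩ := card_eq_one.mp e
        have h1 : s ∈ orb ↥(P : Subgroup G) s := mem_orb_self s
        have h2' : q • s ∈ orb ↥(P : Subgroup G) s := mem_orb.mpr ⟨⟨q, hq⟩, rfl⟩
        rw [hz, mem_singleton] at h1 h2'
        exact hs (h2'.trans h1.symm)
      · exact e
    have hu := eq_univ_of_card _ (hd.trans h7.symm)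
    intro x
    obtain ⟨⟨p, hp⟩, hps⟩ := mem_orb.mp (hu ▸ mem_univ x : x ∈ orb ↥(P : Subgroup G) s)
    exact ⟨p, hp, hps⟩
  set St := (univ : Finset G).filter fun g => g • s = s with hSt
  have hSt12 : St.card * 7 = 84 := by
    have h' := stab_mul_orb (K := G) s
    rw [hG] at h'
    have : (orb G s).card = 7 := by
      rw [← h7, ← card_univ]
      congr 1
      exact eq_univ_iff_forall.mpr fun x => by
        obtain ⟨p, -, hp⟩ := horb x
        exact mem_orb.mpr ⟨p, hp⟩
    rw [this] at h'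
    exact h'
  have hle : St.card ≤ (((univ : Finset G).filter fun x => x ∈ (P : Subgroup G)).erase 1).card := by
    refine card_le_card_of_injOn (fun g => g * q * g⁻¹) ?_ ?_
    · intro g _
      rw [mem_coe, mem_erase, mem_filter]
      refine ⟨fun e => hq1 (Subtype.ext ?_), mem_univ _, hPn.conj_mem q hq g⟩
      exact conj_eq_one_iff.mp e
    · intro g hg g' hg' e
      simp only [hSt, mem_coe, mem_filter, mem_univ, true_and] at hg hg'
      refine FaithfulSMul.eq_of_smul_eq_smul fun x : Ω => ?_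
      obtain ⟨p, hp, rfl⟩ := horb x
      rw [← hgen] at hp
      obtain ⟨i, rfl⟩ := Subgroup.mem_zpowers_iff.mp hp
      have key : ∀ u : G, u • s = s → u • (q ^ i • s) = (u * q * u⁻¹) ^ i • s := fun u hu => by
        rw [conj_zpow, mul_smul, mul_smul, inv_smul_eq_iff.mpr hu.symm]
      rw [key g hg, key g' hg']
      simp only at e
      rw [e]
  have hPfilter : ((univ : Finset G).filter fun x => x ∈ (P : Subgroup G)).card = 7 := by
    exact (Fintype.card_subtype _).symm.trans hPc'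
  rw [card_erase_of_mem (by simp), hPfilter] at hle
  omega

end Cfsg.Agent.DerangeTwo
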